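import Mathlib
import Cfsg.Agent.H967.CopMat
import Cfsg.Agent.H477.FieldLemma

/-!
# Sylow `2`-subgroups fixed by the field automorphisms of odd order: generalities (helper269)

* `exists_sylow` : `N` normal in `O`, `P` a Sylow `2`-subgroup of `O`, `f : N → T` onto: `f (P ∩ N)` is a Sylow
  `2`-subgroup of `T`;
* `exists_subfield` : a finite field `F` has a subfield `E` with `|F| = |E| ^ d`, `d` odd, fixed by all automorphisms of
  `F` of odd order;
* `fac_pow_sub_one`, `fac_pow_add_one` : the `2`-parts of `q ^ (d k) ∓ 1` and `q ^ k ∓ 1`, `d` and `q` odd;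
* `odd_index_map` : images of Sylow `2`-subgroups.
-/

set_option autoImplicit false

namespace Cfsg.Agent.H269.AO

open Subgroup Cfsg.Agent.H967.CopMat

/-! ### Groups -/

theorem relIndex_mul_sup_index {G : Type*} [Group G] [Finite G] (H A : Subgroup G) [A.Normal] :
    H.relIndex A * (H ⊔ A).index = H.index := by
  have h1 : (H ⊓ A).relIndex A * A.index = (H ⊓ A).index := relIndex_mul_index inf_le_right
  have h2 : (H ⊓ A).relIndex H * H.index = (H ⊓ A).index := relIndex_mul_index inf_le_left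
  have h3 : A.relIndex (H ⊔ A) * (H ⊔ A).index = A.index := relIndex_mul_index le_sup_right
  rw [relIndex_sup_right] at h3
  rw [inf_relIndex_right] at h1
  rw [inf_relIndex_left] at h2
  have h4 : A.relIndex H ≠ 0 := ne_zero_of_dvd_ne_zero Nat.card_pos.ne' (relIndex_dvd_card A H)
  apply Nat.eq_of_mul_eq_mul_left (Nat.pos_of_ne_zero h4)
  rw [h2, ← h1, ← h3]
  ring

/-- Sylow `2`-subgroups of quotients of normal subgroups. -/
theorem exists_sylow {O : Type*} [Group O] [Finite O] {N : Subgroup O} [N.Normal] {T : Type*} [Group T] (f : N →* T)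
    (hf : Function.Surjective f) {P : Subgroup O} (hP : IsPGroup 2 P) (hi : ¬ 2 ∣ P.index) :
    ∃ P0 : Sylow 2 T, ∀ x ∈ P0, ∃ s : N, (s : O) ∈ P ∧ f s = x := by
  have h1 : IsPGroup 2 (P.subgroupOf N) := hP.comap_of_injective N.subtype N.subtype_injective
  have h2 : ¬ 2 ∣ (P.subgroupOf N).index := fun hd =>
    hi (hd.trans ⟨_, (relIndex_mul_sup_index P N).symm⟩)
  have h3 : IsPGroup 2 ((P.subgroupOf N).map f) := h1.map f
  have h4 : ¬ 2 ∣ ((P.subgroupOf N).map f).index := fun hd => h2 (hd.trans (index_map_dvd _ hf))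
  refine ⟨h3.toSylow h4, fun x hx => ?_⟩
  obtain ⟨s, hs, rfl⟩ := (show x ∈ (P.subgroupOf N).map f from hx)
  exact ⟨s, hs, rfl⟩

/-- The image of a Sylow `2`-subgroup under an injective homomorphism of groups with the same `2`-part. -/
theorem odd_index_map {A B : Type*} [Group A] [Group B] [Finite A] [Finite B] (f : A →* B) (hf : Function.Injective f)
    (h : (Nat.card A).factorization 2 = (Nat.card B).factorization 2) (P : Sylow 2 A) :
    IsPGroup 2 ((P : Subgroup A).map f) ∧ ¬ 2 ∣ ((P : Subgroup A).map f).index := by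
  refine ⟨P.isPGroup'.map f, fun hd => ?_⟩
  have h1 : Nat.card ((P : Subgroup A).map f) = 2 ^ (Nat.card A).factorization 2 := by
    rw [card_map_of_injective hf]
    exact P.card_eq_multiplicity
  have h2 := card_mul_index ((P : Subgroup A).map f)
  rw [h1, h] at h2
  have h3 : 2 ^ ((Nat.card B).factorization 2 + 1) ∣ Nat.card B := by
    rw [pow_succ]
    calc 2 ^ (Nat.card B).factorization 2 * 2 ∣ 2 ^ (Nat.card B).factorization 2 * ((P : Subgroup A).map f).index :=
          Nat.mul_dvd_mul_left _ hd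
      _ = Nat.card B := h2
  exact Nat.pow_succ_factorization_not_dvd Nat.card_pos.ne' Nat.prime_two h3

/-! ### Fields -/

/-- **The subfield.** -/
theorem exists_subfield (F : Type*) [Field F] [Finite F] :
    ∃ (E : Subfield F) (d : ℕ), Odd d ∧ Nat.card F = Nat.card E ^ d ∧
      ∀ σ : F ≃+* F, Odd (orderOf σ) → ∀ b : E, σ (b : F) = b := by
  have hfin : Finite (F ≃+* F) := Finite.of_injective (fun f : F ≃+* F => (f : F → F)) DFunLike.coe_injective
  have hcyc : IsCyclic (F ≃+* F) := H477.isCyclic_ringAut F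
  obtain ⟨γ, hγ⟩ := hcyc.exists_generator
  obtain ⟨a, d, hd, ho⟩ := Nat.exists_eq_two_pow_mul_odd (n := orderOf γ) (orderOf_pos γ).ne'
  have hτ : orderOf (γ ^ 2 ^ a) = d := by
    rw [orderOf_pow_of_dvd (pow_ne_zero _ two_ne_zero) (ho ▸ dvd_mul_right _ _), ho]
    exact Nat.mul_div_cancel_left d (Nat.two_pow_pos a)
  refine ⟨Fx (γ ^ 2 ^ a), d, hd, by rw [← hτ]; exact card_Fx _, fun σ hσ b => ?_⟩
  -- `σ` is a power of `γ ^ 2 ^ a`
  have h1 : σ ^ orderOf σ = 1 := pow_orderOf_eq_one σ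
  obtain ⟨k, hk⟩ := (mem_powers_iff_mem_zpowers.2 (hγ σ))
  have hk : γ ^ k = σ := hk
  have h2 : 2 ^ a ∣ k := by
    rw [← hk, ← pow_mul] at h1
    have h3 : orderOf γ ∣ k * orderOf (γ ^ k) := orderOf_dvd_of_pow_eq_one h1
    rw [hk] at h3
    have h4 : 2 ^ a ∣ k * orderOf σ := (ho ▸ dvd_mul_right _ _ : 2 ^ a ∣ orderOf γ).trans h3
    exact (Nat.Coprime.pow_left a (Nat.coprime_two_left.2 hσ)).dvd_of_dvd_mul_right h4
  obtain ⟨l, rfl⟩ := h2
  rw [← hk, pow_mul]
  exact pow_fixed b.2 l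

/-! ### Numbers -/

theorem fac_mul_odd {a b : ℕ} (ha : a ≠ 0) (hb : Odd b) : (a * b).factorization 2 = a.factorization 2 := by
  rw [Nat.factorization_mul ha (by rintro rfl; exact absurd hb (by decide)), Finsupp.add_apply,
    Nat.factorization_eq_zero_of_not_dvd (fun h => (Nat.not_even_iff_odd.2 hb) (even_iff_two_dvd.2 h)), add_zero]

theorem fac_mul {a b c e : ℕ} (ha : a ≠ 0) (hb : b ≠ 0) (hc : c ≠ 0) (he : e ≠ 0)
    (h1 : a.factorization 2 = c.factorization 2) (h2 : b.factorization 2 = e.factorization 2) :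
    (a * b).factorization 2 = (c * e).factorization 2 := by
  rw [Nat.factorization_mul ha hb, Nat.factorization_mul hc he, Finsupp.add_apply, Finsupp.add_apply, h1, h2]

theorem fac_odd {a b : ℕ} (ha : Odd a) (hb : Odd b) : a.factorization 2 = b.factorization 2 := by
  have h := fac_mul_odd one_ne_zero ha
  have h' := fac_mul_odd one_ne_zero hb
  rw [one_mul] at h h'
  rw [h, h']

/-- `x ^ d - 1 = (x - 1) * odd` -/
theorem pow_sub_one_fac {x d : ℕ} (hx : Odd x) (hd : Odd d) : ∃ u : ℕ, Odd u ∧ x ^ d - 1 = (x - 1) * u := by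
  refine ⟨∑ i ∈ Finset.range d, x ^ i, ?_, ?_⟩
  · rw [Finset.odd_sum_iff_odd_card_odd]
    rw [Finset.filter_true_of_mem (fun i _ => hx.pow), Finset.card_range]
    exact hd
  · rw [mul_comm]
    exact (geom_sum_mul_of_one_le hx.pos d).symm

theorem fac_pow_sub_one {q d k : ℕ} (hq : Odd q) (hq1 : 1 < q) (hd : Odd d) (hk : 0 < k) :
    ((q ^ d) ^ k - 1).factorization 2 = (q ^ k - 1).factorization 2 := by
  obtain ⟨u, hu, he⟩ := pow_sub_one_fac (hq.pow (n := k)) hd
  rw [← pow_mul, mul_comm d k, pow_mul, he, fac_mul_odd _ hu]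
  have : 1 < q ^ k := Nat.one_lt_pow hk.ne' hq1
  omega

theorem fac_pow_add_one {q d k : ℕ} (hq : Odd q) (hq1 : 1 < q) (hd : Odd d) (hk : 0 < k) :
    ((q ^ d) ^ k + 1).factorization 2 = (q ^ k + 1).factorization 2 := by
  have h1 := fac_pow_sub_one hq hq1 hd hk
  have h2 := fac_pow_sub_one hq hq1 hd (k := k * 2) (by omega)
  have hd0 : d ≠ 0 := by rintro rfl; exact absurd hd (by decide)
  have e1 : ∀ x : ℕ, x ^ (k * 2) - 1 = (x ^ k - 1) * (x ^ k + 1) := by
    intro x
    rw [pow_mul, mul_comm, ← Nat.sq_sub_sq, one_pow]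
  rw [e1, e1] at h2
  have h3 : 1 < q ^ k := Nat.one_lt_pow hk.ne' hq1
  have h4 : 1 < (q ^ d) ^ k := Nat.one_lt_pow hk.ne' (Nat.one_lt_pow hd0 hq1)
  rw [Nat.factorization_mul (by omega) (by omega), Nat.factorization_mul (by omega) (by omega), Finsupp.add_apply,
    Finsupp.add_apply, h1] at h2
  exact Nat.add_left_cancel h2

end Cfsg.Agent.H269.AO
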