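import Mathlib
import Cfsg.Prelude.Def_LieTypeDatum
import Cfsg.Agent.H185.OrthCent
import Cfsg.Agent.H269.AO.Gen

/-!
# A Sylow `2`-subgroup of `POmega F Q` with entries in a subfield (helper269)

* `isoHom` : isometries over the small field;
* `exists_sylow_fixed` : if `Q` is defined over `F₀` and the isometry groups over `F₀` and `F` have the same `2`-part then
  some Sylow `2`-subgroup of `POmega F Q` is centralised by all field automorphisms fixing `F₀`.
-/

set_option autoImplicit false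

namespace Cfsg.Agent.H269.AO

open Subgroup Cfsg Matrix QuadraticMap Cfsg.Agent.H185.OrthCent

universe u v

variable {ι : Type} [Fintype ι] [DecidableEq ι] {F : Type u} [Field F] {F₀ : Type v} [Field F₀]
  {j : F₀ →+* F} {Q₀ : QuadraticForm F₀ (ι → F₀)} {Q : QuadraticForm F (ι → F)}

/-- Isometries over the small field. -/
def isoHom (h : Ext j Q₀ Q) : isometryGroup F₀ ⇑Q₀ →* isometryGroup F ⇑Q where
  toFun g := ⟨mp j g.1, fun v _ => by
    have h1 := h.sim (g := g.1) (c := 1) (fun v => by rw [one_mul]; exact g.2 v v) v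
    rw [map_one, one_mul] at h1
    exact h1⟩
  map_one' := Subtype.ext (map_one _)
  map_mul' g k := Subtype.ext (map_mul _ _ _)

theorem isoHom_injective (h : Ext j Q₀ Q) : Function.Injective (isoHom h) := by
  intro g k H
  exact Subtype.ext (mp_injective j (congrArg Subtype.val H))

/-- **The Sylow `2`-subgroup.** -/
theorem exists_sylow_fixed [Finite F] [Finite F₀] (h : Ext j Q₀ Q)
    (hc : (Nat.card (isometryGroup F₀ ⇑Q₀)).factorization 2 = (Nat.card (isometryGroup F ⇑Q)).factorization 2) :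
    ∃ P0 : Sylow 2 (POmega F ⇑Q), ∀ σ : F ≃+* F, (∀ b, σ (j b) = j b) →
      ∀ β : POmega F ⇑Q ≃* POmega F ⇑Q, IsFieldAutPOmegaOf ⇑Q σ β → ∀ x ∈ P0, β x = x := by
  obtain ⟨P⟩ : Nonempty (Sylow 2 (isometryGroup F₀ ⇑Q₀)) := inferInstance
  obtain ⟨h1, h2⟩ := odd_index_map (isoHom h) (isoHom_injective h) hc P
  obtain ⟨P0, hP0⟩ := exists_sylow (N := Omega F ⇑Q) (QuotientGroup.mk' (center (Omega F ⇑Q)))
    (QuotientGroup.mk'_surjective _) h1 h2
  refine ⟨P0, fun σ hσ β hβ x hx => ?_⟩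
  obtain ⟨s, ⟨g, -, hg⟩, rfl⟩ := hP0 x hx
  refine hβ s s ?_
  have h3 : (((s : ↥(isometryGroup F ⇑Q)) : GL ι F) : Matrix ι ι F) = ((g : GL ι F₀) : Matrix ι ι F₀).map j := by
    rw [← hg]; rfl
  rw [h3]
  ext i k
  exact (hσ _).symm

end Cfsg.Agent.H269.AO
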