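import Mathlib
import Cfsg.Agent.S0287
import Cfsg.Agent.H269.AO.Sub

/-!
# `PΩ⁺_{2m}(F)`, `|F|` odd: a Sylow `2`-subgroup centralised by the field automorphisms of odd order (helper269)
-/

set_option autoImplicit false

namespace Cfsg.Agent.H269.AO

open Subgroup Cfsg Matrix QuadraticMap Cfsg.Agent.H185.OrthCent Cfsg.Agent.H198.Carriers

universe u

theorem fac_prod {n : ℕ} {f g : ℕ → ℕ} (hf : ∀ i < n, f i ≠ 0) (hg : ∀ i < n, g i ≠ 0)
    (h : ∀ i < n, (f i).factorization 2 = (g i).factorization 2) :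
    (∏ i ∈ Finset.range n, f i).factorization 2 = (∏ i ∈ Finset.range n, g i).factorization 2 := by
  induction n with
  | zero => rfl
  | succ n ih =>
    rw [Finset.prod_range_succ, Finset.prod_range_succ]
    exact fac_mul (Finset.prod_ne_zero_iff.2 fun i hi => hf i (by have := Finset.mem_range.1 hi; omega)) (hf n (by omega))
      (Finset.prod_ne_zero_iff.2 fun i hi => hg i (by have := Finset.mem_range.1 hi; omega)) (hg n (by omega))
      (ih (fun i hi => hf i (by omega)) (fun i hi => hg i (by omega)) (fun i hi => h i (by omega))) (h n (by omega))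

/-- the `2`-parts of the orders -/
theorem fac_card_plus {F : Type u} [Field F] [Finite F] {E : Subfield F} {d : ℕ} (hd : Odd d)
    (hc : Nat.card F = Nat.card E ^ d) (hodd : Odd (Nat.card F)) {m : ℕ} (hm : 1 ≤ m) :
    (Nat.card (isometryGroup E (quadFormPlus m E))).factorization 2 =
      (Nat.card (isometryGroup F (quadFormPlus m F))).factorization 2 := by
  have := Fintype.ofFinite F
  have := Fintype.ofFinite E
  have hd0 : d ≠ 0 := by rintro rfl; exact absurd hd (by decide)
  have hE1 : 1 < Nat.card E := Finite.one_lt_card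
  have hEo : Odd (Nat.card E) := by
    rw [hc] at hodd
    exact Nat.Odd.of_mul_left (n := Nat.card E ^ (d - 1)) (by rwa [← pow_succ', Nat.sub_add_cancel (by omega)])
  rw [S0287.result (F := E) rfl m hm, S0287.result (F := F) rfl m hm, ← Nat.card_eq_fintype_card,
    ← Nat.card_eq_fintype_card, hc]
  generalize Nat.card E = q at *
  have hq : ∀ k, 0 < k → q ^ k - 1 ≠ 0 := fun k hk => by
    have : 1 < q ^ k := Nat.one_lt_pow hk.ne' hE1
    omega
  have hqd : ∀ k, 0 < k → (q ^ d) ^ k - 1 ≠ 0 := fun k hk => by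
    rw [← pow_mul]
    exact hq _ (Nat.mul_pos (Nat.pos_of_ne_zero hd0) hk)
  have hp : ∀ k, q ^ k ≠ 0 := fun k => pow_ne_zero _ (by omega)
  have hpd : ∀ k, (q ^ d) ^ k ≠ 0 := fun k => pow_ne_zero _ (hp _)
  refine fac_mul (mul_ne_zero (mul_ne_zero two_ne_zero (hp _)) (hq _ hm))
    (Finset.prod_ne_zero_iff.2 fun i _ => hq _ (by omega))
    (mul_ne_zero (mul_ne_zero two_ne_zero (hpd _)) (hqd _ hm)) (Finset.prod_ne_zero_iff.2 fun i _ => hqd _ (by omega)) ?_ ?_
  · refine fac_mul (mul_ne_zero two_ne_zero (hp _)) (hq _ hm) (mul_ne_zero two_ne_zero (hpd _)) (hqd _ hm) ?_ ?_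
    · exact fac_mul two_ne_zero (hp _) two_ne_zero (hpd _) rfl (fac_odd hEo.pow hEo.pow.pow)
    · exact (fac_pow_sub_one hEo hE1 hd hm).symm
  · exact fac_prod (fun i _ => hq _ (by omega)) (fun i _ => hqd _ (by omega))
      (fun i _ => (fac_pow_sub_one hEo hE1 hd (by omega)).symm)

theorem ext_plusQ {F : Type u} [Field F] (E : Subfield F) (m : ℕ) : Ext E.subtype (plusQ m E) (plusQ m F) :=
  ⟨fun v => by
    change quadFormPlus m F (fun i => E.subtype (v i)) = E.subtype (quadFormPlus m E v)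
    simp only [quadFormPlus, map_sum, map_mul]⟩

theorem fix_plusQ {F : Type u} [Field F] (σ : F ≃+* F) (m : ℕ) : Fix σ (plusQ m F) := by
  intro v
  change quadFormPlus m F (fun i => σ (v i)) = σ (quadFormPlus m F v)
  simp only [quadFormPlus, map_sum, map_mul]

/-- **The standard field automorphisms of odd order of `PΩ⁺_{2m}(F)`, `|F|` odd, centralise a common Sylow
`2`-subgroup.** -/
theorem exists_sylow_plus {F : Type u} [Field F] [Finite F] (hodd : Odd (Nat.card F)) {m : ℕ} (hm : 1 ≤ m) :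
    ∃ P0 : Sylow 2 (POmega F (quadFormPlus m F)), ∀ σ : F ≃+* F, Odd (orderOf σ) →
      ∀ β : POmega F (quadFormPlus m F) ≃* POmega F (quadFormPlus m F),
        IsFieldAutPOmegaOf (quadFormPlus m F) σ β → ∀ x ∈ P0, β x = x := by
  obtain ⟨E, d, hd, hc, hE⟩ := exists_subfield F
  obtain ⟨P0, h⟩ := exists_sylow_fixed (ext_plusQ E m) (fac_card_plus hd hc hodd hm)
  exact ⟨P0, fun σ hσ β hβ => h σ (fun b => hE σ hσ b) β hβ⟩

end Cfsg.Agent.H269.AO
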