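import Mathlib
import Cfsg.Agent.H269.AO.Crit
import Cfsg.Agent.H269.AO.Plus

/-!
# `AutOdd` for `PΩ⁺_{2m}(F)`, `m ≥ 5`, `|F|` odd (helper269)
-/

set_option autoImplicit false

namespace Cfsg.Agent.H269.AO

open Cfsg Cfsg.Agent.H198.Carriers Cfsg.Agent.H561.RV

universe u

/-- **`AutOdd` for `PΩ⁺_{2m}(F)`, `m ≥ 5`.** -/
theorem autOdd_oPlus {F : Type u} [Field F] [Fintype F] (hodd : Odd (Fintype.card F)) {m : ℕ} (hm : 5 ≤ m) :
    AutOdd (POmega F (quadFormPlus m F)) := by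
  have hodd' : Odd (Nat.card F) := by rwa [Nat.card_eq_fintype_card]
  refine autOdd_of_good (Q := plusQ m F) (good_plusQ (by omega)) ?_ (surj_plusQ hm) (fun σ => fix_plusQ σ m)
    (exists_sylow_plus hodd' (by omega))
  rw [Fintype.card_sum, Fintype.card_fin]
  omega

/-- **The field automorphisms of odd order of `PΩ⁺_{2m}(F)` centralise a common Sylow `2`-subgroup.** -/
theorem exists_sylow_oPlus {F : Type u} [Field F] [Fintype F] (hodd : Odd (Fintype.card F)) {m : ℕ} (hm : 1 ≤ m) :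
    ∃ P0 : Sylow 2 (POmega F (quadFormPlus m F)), ∀ σ : F ≃+* F, Odd (orderOf σ) →
      ∀ β : POmega F (quadFormPlus m F) ≃* POmega F (quadFormPlus m F),
        IsFieldAutPOmegaOf (quadFormPlus m F) σ β → ∀ x ∈ P0, β x = x :=
  exists_sylow_plus (by rwa [Nat.card_eq_fintype_card]) hm

end Cfsg.Agent.H269.AO
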